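import Cfsg.Agent.Lib.PSLn.Sylow
import Cfsg.Agent.Lib.SmallSimple.PSL34

/-!
The two elementary abelian subgroups of order sixteen of a Sylow `2`-subgroup of `PSL₃(4)` and their
normalisers.
-/

set_option autoImplicit false
set_option linter.style.haveILetI false
set_option linter.unusedSectionVars false

namespace CfsgLib.L34Cover

open Matrix CfsgLib.PSLn

variable {F : Type*} [Field F] [Fintype F] (hF : Fintype.card F = 4)

local notation "SL3" => Matrix.SpecialLinearGroup (Fin 3) F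
local notation "SL2" => Matrix.SpecialLinearGroup (Fin 2) F
local notation "PSL3" => Matrix.ProjectiveSpecialLinearGroup (Fin 3) F

theorem entries (A : upper F 3) :
    A.1.1 0 0 = 1 ∧ A.1.1 1 1 = 1 ∧ A.1.1 2 2 = 1 ∧ A.1.1 1 0 = 0 ∧ A.1.1 2 0 = 0 ∧ A.1.1 2 1 = 0 := by
  refine ⟨?_, ?_, ?_, ?_, ?_, ?_⟩
  all_goals
    have h := fun i j hij => A.2 i j hij
  · simpa using h 0 0 le_rfl
  · simpa using h 1 1 le_rfl
  · simpa using h 2 2 le_rfl
  · simpa using h 1 0 (by decide)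
  · simpa using h 2 0 (by decide)
  · simpa using h 2 1 (by decide)

theorem mul_entries (A B : upper F 3) :
    (A * B).1.1 0 1 = A.1.1 0 1 + B.1.1 0 1 ∧ (A * B).1.1 1 2 = A.1.1 1 2 + B.1.1 1 2 ∧
      (A * B).1.1 0 2 = A.1.1 0 2 + B.1.1 0 2 + A.1.1 0 1 * B.1.1 1 2 := by
  obtain ⟨a00, a11, a22, a10, a20, a21⟩ := entries A
  obtain ⟨b00, b11, b22, b10, b20, b21⟩ := entries B
  refine ⟨?_, ?_, ?_⟩
  all_goals
    show (A.1.1 * B.1.1) _ _ = _
    rw [Matrix.mul_apply, Fin.sum_univ_three]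
    simp only [a00, a11, a22, a10, a20, a21, b00, b11, b22, b10, b20, b21]
    ring

theorem ext_entries (A B : upper F 3) (h01 : A.1.1 0 1 = B.1.1 0 1)
    (h12 : A.1.1 1 2 = B.1.1 1 2) (h02 : A.1.1 0 2 = B.1.1 0 2) : A = B := by
  obtain ⟨a00, a11, a22, a10, a20, a21⟩ := entries A
  obtain ⟨b00, b11, b22, b10, b20, b21⟩ := entries B
  apply Subtype.ext; apply Subtype.ext
  ext i j
  fin_cases i <;> fin_cases j <;> simp_all

theorem one_entries : (1 : upper F 3).1.1 0 1 = 0 ∧ (1 : upper F 3).1.1 1 2 = 0 ∧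
    (1 : upper F 3).1.1 0 2 = 0 :=
  ⟨by simp, by simp, by simp⟩

/-- The element of the unitriangular group with the given entries. -/
def ut (a c b : F) : upper F 3 :=
  ⟨⟨!![1, a, b; 0, 1, c; 0, 0, 1], by simp [Matrix.det_fin_three]⟩, fun i j h => by
    fin_cases i <;> fin_cases j <;> first | (simp; done) | exact absurd h (by decide)⟩

theorem ut_entries (a c b : F) : (ut a c b).1.1 0 1 = a ∧ (ut a c b).1.1 1 2 = c ∧ (ut a c b).1.1 0 2 = b :=
  ⟨rfl, rfl, rfl⟩

/-- The matrices with zero entry at `(1, 2)`. -/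
def U1 : Subgroup (upper F 3) where
  carrier := {A | A.1.1 1 2 = 0}
  one_mem' := one_entries.2.1
  mul_mem' := fun {A B} (hA : A.1.1 1 2 = 0) (hB : B.1.1 1 2 = 0) => show (A * B).1.1 1 2 = 0 by
    rw [(mul_entries A B).2.1, hA, hB, add_zero]
  inv_mem' := fun {A} (hA : A.1.1 1 2 = 0) => show (A⁻¹).1.1 1 2 = 0 by
    have h := (mul_entries A⁻¹ A).2.1
    rw [inv_mul_cancel, one_entries.2.1, hA, add_zero] at h
    exact h.symm

/-- The matrices with zero entry at `(0, 1)`. -/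
def U2 : Subgroup (upper F 3) where
  carrier := {A | A.1.1 0 1 = 0}
  one_mem' := one_entries.1
  mul_mem' := fun {A B} (hA : A.1.1 0 1 = 0) (hB : B.1.1 0 1 = 0) => show (A * B).1.1 0 1 = 0 by
    rw [(mul_entries A B).1, hA, hB, add_zero]
  inv_mem' := fun {A} (hA : A.1.1 0 1 = 0) => show (A⁻¹).1.1 0 1 = 0 by
    have h := (mul_entries A⁻¹ A).1
    rw [inv_mul_cancel, one_entries.1, hA, add_zero] at h
    exact h.symm

theorem mem_U1 {A : upper F 3} : A ∈ U1 (F := F) ↔ A.1.1 1 2 = 0 := Iff.rfl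

theorem mem_U2 {A : upper F 3} : A ∈ U2 (F := F) ↔ A.1.1 0 1 = 0 := Iff.rfl

instance U1_normal : (U1 (F := F)).Normal := ⟨fun A (hA : A.1.1 1 2 = 0) g => show (g * A * g⁻¹).1.1 1 2 = 0 by
  have h := (mul_entries g g⁻¹).2.1
  rw [mul_inv_cancel, one_entries.2.1] at h
  rw [(mul_entries _ _).2.1, (mul_entries _ _).2.1, hA, add_zero, ← h]⟩

instance U2_normal : (U2 (F := F)).Normal := ⟨fun A (hA : A.1.1 0 1 = 0) g => show (g * A * g⁻¹).1.1 0 1 = 0 by
  have h := (mul_entries g g⁻¹).1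
  rw [mul_inv_cancel, one_entries.1] at h
  rw [(mul_entries _ _).1, (mul_entries _ _).1, hA, add_zero, ← h]⟩

theorem sup_U : U1 (F := F) ⊔ U2 = ⊤ := by
  refine eq_top_iff.2 fun A _ => ?_
  have e : A = ut (A.1.1 0 1) 0 0 * ut 0 (A.1.1 1 2) (A.1.1 0 2 - A.1.1 0 1 * A.1.1 1 2) := by
    obtain ⟨h1, h2, h3⟩ := mul_entries (ut (A.1.1 0 1) 0 0)
      (ut 0 (A.1.1 1 2) (A.1.1 0 2 - A.1.1 0 1 * A.1.1 1 2))
    refine ext_entries _ _ ?_ ?_ ?_
    · rw [h1, (ut_entries _ _ _).1, (ut_entries _ _ _).1, add_zero]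
    · rw [h2, (ut_entries _ _ _).2.1, (ut_entries _ _ _).2.1, zero_add]
    · rw [h3, (ut_entries _ _ _).2.2, (ut_entries _ _ _).2.2, (ut_entries _ _ _).1, (ut_entries _ _ _).2.1]
      ring
  rw [e]
  exact Subgroup.mul_mem_sup (ut_entries _ _ _).2.1 (ut_entries _ _ _).1

theorem centralizer_pair (A : upper F 3) (h1 : ∀ B ∈ U1 (F := F), B * A = A * B)
    (h2 : ∀ B ∈ U2 (F := F), B * A = A * B) : A ∈ U1 (F := F) ⊓ U2 := by
  have e1 := congrArg (fun M : upper F 3 => M.1.1 0 2) (h1 (ut 1 0 0) (ut_entries _ _ _).2.1)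
  have e2 := congrArg (fun M : upper F 3 => M.1.1 0 2) (h2 (ut 0 1 0) (ut_entries _ _ _).1)
  simp only [(mul_entries _ _).2.2, (ut_entries _ _ _).1, (ut_entries _ _ _).2.1, (ut_entries _ _ _).2.2] at e1 e2
  exact ⟨show A.1.1 1 2 = 0 by linear_combination e1, show A.1.1 0 1 = 0 by linear_combination -e2⟩

/-- The first block embedding, on matrices. -/
def L1m (M : Matrix (Fin 2) (Fin 2) F) : Matrix (Fin 3) (Fin 3) F :=
  !![1, 0, 0; 0, M 0 0, M 0 1; 0, M 1 0, M 1 1]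

/-- The second block embedding, on matrices. -/
def L2m (M : Matrix (Fin 2) (Fin 2) F) : Matrix (Fin 3) (Fin 3) F :=
  !![M 0 0, M 0 1, 0; M 1 0, M 1 1, 0; 0, 0, 1]

theorem L1m_mul (A B : Matrix (Fin 2) (Fin 2) F) : L1m (A * B) = L1m A * L1m B := by
  ext i j
  fin_cases i <;> fin_cases j <;> simp [L1m, Matrix.mul_apply, Fin.sum_univ_three, Fin.sum_univ_two]

theorem L2m_mul (A B : Matrix (Fin 2) (Fin 2) F) : L2m (A * B) = L2m A * L2m B := by
  ext i j
  fin_cases i <;> fin_cases j <;> simp [L2m, Matrix.mul_apply, Fin.sum_univ_three, Fin.sum_univ_two]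

theorem L1m_one : L1m (1 : Matrix (Fin 2) (Fin 2) F) = 1 := by
  ext i j
  fin_cases i <;> fin_cases j <;> simp [L1m]

theorem L2m_one : L2m (1 : Matrix (Fin 2) (Fin 2) F) = 1 := by
  ext i j
  fin_cases i <;> fin_cases j <;> simp [L2m]

theorem det_L1m (M : Matrix (Fin 2) (Fin 2) F) : (L1m M).det = M.det := by
  simp [L1m, Matrix.det_fin_three, Matrix.det_fin_two]

theorem det_L2m (M : Matrix (Fin 2) (Fin 2) F) : (L2m M).det = M.det := by
  simp [L2m, Matrix.det_fin_three, Matrix.det_fin_two]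

/-- The first block embedding of `SL₂`. -/
def L1 : SL2 →* SL3 where
  toFun B := ⟨L1m B.1, (det_L1m B.1).trans B.2⟩
  map_one' := Subtype.ext L1m_one
  map_mul' A B := Subtype.ext (L1m_mul A.1 B.1)

/-- The second block embedding of `SL₂`. -/
def L2 : SL2 →* SL3 where
  toFun B := ⟨L2m B.1, (det_L2m B.1).trans B.2⟩
  map_one' := Subtype.ext L2m_one
  map_mul' A B := Subtype.ext (L2m_mul A.1 B.1)

theorem L1_coe (B : SL2) : (L1 B).1 = L1m B.1 := rfl

theorem L2_coe (B : SL2) : (L2 B).1 = L2m B.1 := rfl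

theorem ut_coe (a c b : F) : (ut a c b).1.1 = !![1, a, b; 0, 1, c; 0, 0, 1] := rfl

/-- The image in `PSL₃` of a subgroup of the unitriangular group. -/
noncomputable def img (U : Subgroup (upper F 3)) : Subgroup PSL3 := U.map (upperHom F 3)

/-- The structure of the normaliser of one of the two subgroups. -/
structure Plane (E : Subgroup PSL3) : Prop where
  split : ∃ f : SL2 →* PSL3, Function.Injective f ∧ (∀ B, f B ∈ Subgroup.normalizer (E : Set PSL3)) ∧
    (∀ B, f B ∈ E → B = 1) ∧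
    (∀ g ∈ Subgroup.normalizer (E : Set PSL3), ∃ e ∈ E, ∃ B, g = e * f B)
  trans : ∀ a ∈ E, ∀ b ∈ E, a ≠ 1 → b ≠ 1 →
    ∃ g ∈ Subgroup.normalizer (E : Set PSL3), g * a * g⁻¹ = b

theorem upperHom_apply (A : upper F 3) :
    upperHom F 3 A = QuotientGroup.mk' (Subgroup.center SL3) A.1 := rfl

theorem mk_eq_mk {A B : SL3} (hF : Fintype.card F = 4)
    (h : QuotientGroup.mk' (Subgroup.center SL3) A = QuotientGroup.mk' (Subgroup.center SL3) B) :
    ∃ r : F, r ^ 3 = 1 ∧ A.1 = r • B.1 := by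
  have h1 : QuotientGroup.mk' (Subgroup.center SL3) (B⁻¹ * A) = 1 := by
    rw [map_mul, map_inv, h, inv_mul_cancel]
  obtain ⟨r, hr, he⟩ := (PSL34.mkP_eq_one hF).1 h1
  refine ⟨r, hr, ?_⟩
  have e : A = B * (B⁻¹ * A) := by rw [mul_inv_cancel_left]
  have e' := congrArg Subtype.val e
  rw [Matrix.SpecialLinearGroup.coe_mul, he, Matrix.mul_smul, mul_one] at e'
  exact e'

include hF

theorem add_self_zero (a : F) : a + a = 0 := by
  haveI := PSL34.char_two hF
  exact CharTwo.add_self_eq_zero a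

theorem one_of_sq (a : F) (h : a * a = 1) : a = 1 := by
  have h3 : a ^ 3 = 1 := PSL34.cube hF fun e => by rw [e, mul_zero] at h; exact zero_ne_one h
  calc a = a * (a * a) := by rw [h, mul_one]
    _ = 1 := by rw [← h3]; ring

theorem sq_of_mem {A : upper F 3} (hA : A.1.1 1 2 = 0 ∨ A.1.1 0 1 = 0) : A * A = 1 := by
  obtain ⟨h1, h2, h3⟩ := mul_entries A A
  refine ext_entries _ _ ?_ ?_ ?_
  · rw [h1, one_entries.1, add_self_zero hF]
  · rw [h2, one_entries.2.1, add_self_zero hF]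
  · rw [h3, one_entries.2.2, add_self_zero hF, zero_add]
    rcases hA with h | h <;> rw [h] <;> ring

theorem card_U1 : Nat.card (U1 (F := F)) = 16 := by
  have e : (U1 (F := F)) ≃ F × F :=
    { toFun := fun A => (A.1.1.1 0 1, A.1.1.1 0 2)
      invFun := fun v => ⟨ut v.1 0 v.2, (ut_entries _ _ _).2.1⟩
      left_inv := fun A => Subtype.ext (ext_entries _ _ rfl (A.2 : A.1.1.1 1 2 = 0).symm rfl)
      right_inv := fun v => rfl }
  rw [Nat.card_congr e, Nat.card_prod, Nat.card_eq_fintype_card, hF]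

theorem card_U2 : Nat.card (U2 (F := F)) = 16 := by
  have e : (U2 (F := F)) ≃ F × F :=
    { toFun := fun A => (A.1.1.1 1 2, A.1.1.1 0 2)
      invFun := fun v => ⟨ut 0 v.1 v.2, (ut_entries _ _ _).1⟩
      left_inv := fun A => Subtype.ext (ext_entries _ _ (A.2 : A.1.1.1 0 1 = 0).symm rfl rfl)
      right_inv := fun v => rfl }
  rw [Nat.card_congr e, Nat.card_prod, Nat.card_eq_fintype_card, hF]

theorem eq_U1_or_U2 (W : Subgroup (upper F 3)) (hsq : ∀ w ∈ W, w * w = 1) (hW : Nat.card W = 16) :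
    W = U1 ∨ W = U2 := by
  have hcov : ∀ w ∈ W, w ∈ U1 (F := F) ∨ w ∈ U2 (F := F) := fun w hw => by
    have h := (mul_entries w w).2.2
    rw [hsq w hw, one_entries.2.2, add_self_zero hF, zero_add] at h
    rcases mul_eq_zero.1 h.symm with h | h
    · exact Or.inr h
    · exact Or.inl h
  by_cases h1 : W ≤ U1
  · exact Or.inl (Subgroup.eq_of_le_of_card_ge h1 (by rw [hW, card_U1 hF]))
  · obtain ⟨a, haW, ha1⟩ := SetLike.not_le_iff_exists.1 h1
    have ha2 : a ∈ U2 (F := F) := (hcov a haW).resolve_left ha1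
    refine Or.inr (Subgroup.eq_of_le_of_card_ge (fun w hw => ?_) (by rw [hW, card_U2 hF]))
    rcases hcov w hw with hw1 | hw2
    · rcases hcov (a * w) (mul_mem haW hw) with h | h
      · exact absurd ((Subgroup.mul_mem_cancel_right _ hw1).1 h) ha1
      · exact (Subgroup.mul_mem_cancel_left _ ha2).1 h
    · exact hw2

theorem conj_one (B : SL2) (a b : F) : L1 B * (ut a 0 b).1 =
    (ut (a * B⁻¹.1 0 0 + b * B⁻¹.1 1 0) 0 (a * B⁻¹.1 0 1 + b * B⁻¹.1 1 1)).1 * L1 B := by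
  have hd := B.2
  rw [Matrix.det_fin_two] at hd
  apply Subtype.ext
  rw [Matrix.SpecialLinearGroup.coe_mul, Matrix.SpecialLinearGroup.coe_mul, L1_coe, ut_coe, ut_coe,
    Matrix.SpecialLinearGroup.coe_inv, Matrix.adjugate_fin_two]
  ext i j
  fin_cases i <;> fin_cases j <;> simp [L1m, Matrix.mul_apply, Fin.sum_univ_three]
  · linear_combination (-a) * hd
  · linear_combination (-b) * hd

theorem conj_two (B : SL2) (a b : F) : L2 B * (ut 0 b a).1 =
    (ut 0 (B.1 1 0 * a + B.1 1 1 * b) (B.1 0 0 * a + B.1 0 1 * b)).1 * L2 B := by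
  apply Subtype.ext
  rw [Matrix.SpecialLinearGroup.coe_mul, Matrix.SpecialLinearGroup.coe_mul, L2_coe, ut_coe, ut_coe]
  ext i j
  fin_cases i <;> fin_cases j <;> simp [L2m, Matrix.mul_apply, Fin.sum_univ_three]

theorem scalar_one {g u v : SL3} (hu : u * u = 1) (hv : v * v = 1) {r : F}
    (h : (g * u).1 = r • (v * g).1) : r = 1 := by
  rw [Matrix.SpecialLinearGroup.coe_mul, Matrix.SpecialLinearGroup.coe_mul] at h
  have hu' : u.1 * u.1 = 1 := congrArg Subtype.val hu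
  have hv' : v.1 * v.1 = 1 := congrArg Subtype.val hv
  have h2 : g.1 = (r * r) • g.1 := by
    calc g.1 = g.1 * u.1 * u.1 := by rw [Matrix.mul_assoc, hu', Matrix.mul_one]
      _ = (r • (v.1 * g.1)) * u.1 := by rw [h]
      _ = r • (v.1 * (g.1 * u.1)) := by rw [Matrix.smul_mul, Matrix.mul_assoc]
      _ = (r * r) • g.1 := by rw [h, Matrix.mul_smul, smul_smul, ← Matrix.mul_assoc, hv', Matrix.one_mul]
  refine one_of_sq hF r ?_
  by_contra hne
  have h3 : g.1 = 0 := by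
    ext i j
    have := congrFun (congrFun h2 i) j
    rw [Matrix.smul_apply, smul_eq_mul] at this
    have h4 : (r * r - 1) * g.1 i j = 0 := by linear_combination -this
    exact (mul_eq_zero.1 h4).resolve_left (sub_ne_zero.2 hne)
  have hd := g.2
  rw [h3, Matrix.det_zero] at hd
  exact zero_ne_one hd

theorem plane_of_model {U : Subgroup (upper F 3)} {L : SL2 →* SL3} (v : F → F → upper F 3)
    (hv : ∀ A, A ∈ U ↔ ∃ a b, A = v a b) (hv0 : v 0 0 = 1)
    (hinj : ∀ B a b (r : F), (L B).1 = r • (v a b).1.1 → r ^ 3 = 1 → B = 1)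
    (hconj : ∀ B a b, ∃ a' b', L B * (v a b).1 = (v a' b').1 * L B)
    (htrans : ∀ a b, a ≠ 0 ∨ b ≠ 0 → ∃ B, L B * (v 1 0).1 = (v a b).1 * L B)
    (hdec : ∀ g : SL3, (∀ a b, ∃ a' b', (g * (v a b).1).1 = ((v a' b').1 * g).1) →
      ∃ a b B, ∃ r : F, r ^ 3 = 1 ∧ g.1 = r • ((v a b).1 * L B).1)
    (hsq : ∀ a b, v a b * v a b = 1) :
    Plane (img U) := by
  classical
  set mk := QuotientGroup.mk' (Subgroup.center SL3) with hmk
  have hu : ∀ a b : F, mk (v a b).1 ∈ img U := fun a b => ⟨v a b, (hv _).2 ⟨a, b, rfl⟩, rfl⟩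
  have hmem : ∀ e ∈ img U, ∃ a b : F, e = mk (v a b).1 := by
    rintro e ⟨A, hA, rfl⟩
    obtain ⟨a, b, rfl⟩ := (hv A).1 hA
    exact ⟨a, b, rfl⟩
  have hN : ∀ B : SL2, mk (L B) ∈ Subgroup.normalizer (img U : Set PSL3) := by
    intro B
    have hfor : ∀ B : SL2, ∀ e ∈ img U, mk (L B) * e * (mk (L B))⁻¹ ∈ img U := by
      intro B e he
      obtain ⟨a, b, rfl⟩ := hmem e he
      obtain ⟨a', b', h⟩ := hconj B a b
      rw [← map_mul, h, map_mul, mul_inv_cancel_right]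
      exact hu _ _
    rw [Subgroup.mem_normalizer_iff]
    intro e
    refine ⟨hfor B e, fun he => ?_⟩
    have h := hfor B⁻¹ _ he
    rwa [map_inv, map_inv, inv_inv,
      show (mk (L B))⁻¹ * (mk (L B) * e * (mk (L B))⁻¹) * mk (L B) = e by group] at h
  have hone : (v 0 0).1 = (1 : SL3) := by rw [hv0]; rfl
  refine ⟨⟨mk.comp L, ?_, hN, ?_, ?_⟩, ?_⟩
  · refine (injective_iff_map_eq_one _).2 fun B hB => ?_
    obtain ⟨r, hr, h⟩ := mk_eq_mk hF (show mk (L B) = mk 1 by rw [map_one]; exact hB)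
    exact hinj B 0 0 r (by rw [hone]; exact h) hr
  · intro B hB
    obtain ⟨a, b, he⟩ := hmem _ hB
    obtain ⟨r, hr, h⟩ := mk_eq_mk hF he
    exact hinj B a b r h hr
  · intro g hg
    obtain ⟨g, rfl⟩ := QuotientGroup.mk'_surjective (Subgroup.center SL3) g
    obtain ⟨a, b, B, r, hr, h⟩ := hdec g fun a b => by
      obtain ⟨a', b', he⟩ := hmem _ ((Subgroup.mem_normalizer_iff.1 hg _).1 (hu a b))
      obtain ⟨r, hr, h⟩ := mk_eq_mk hF (show mk (g * (v a b).1) = mk ((v a' b').1 * g) by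
        rw [map_mul, map_mul, ← he, inv_mul_cancel_right])
      refine ⟨a', b', ?_⟩
      rw [h, scalar_one hF (congrArg Subtype.val (hsq a b)) (congrArg Subtype.val (hsq a' b')) h, one_smul]
    refine ⟨mk (v a b).1, hu a b, B, ?_⟩
    show mk g = _ * mk (L B)
    rw [← map_mul]
    set e : SL3 := (v a b).1 * L B
    have h1 : mk (e⁻¹ * g) = 1 := by
      refine (PSL34.mkP_eq_one hF).2 ⟨r, hr, ?_⟩
      rw [Matrix.SpecialLinearGroup.coe_mul, h, Matrix.mul_smul, ← Matrix.SpecialLinearGroup.coe_mul,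
        inv_mul_cancel, Matrix.SpecialLinearGroup.coe_one]
    rw [map_mul, map_inv, inv_mul_eq_one] at h1
    exact h1.symm
  · intro a ha b hb ha1 hb1
    have hto : ∀ x y : F, mk (v x y).1 ≠ 1 → ∃ B : SL2,
        mk (L B) * mk (v 1 0).1 * (mk (L B))⁻¹ = mk (v x y).1 := by
      intro x y hne
      obtain ⟨B, h⟩ := htrans x y (by
        by_contra hc
        push Not at hc
        rw [hc.1, hc.2, hone, map_one] at hne
        exact hne rfl)
      exact ⟨B, by rw [← map_mul, h, map_mul, mul_inv_cancel_right]⟩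
    obtain ⟨x, y, rfl⟩ := hmem a ha
    obtain ⟨x', y', rfl⟩ := hmem b hb
    obtain ⟨B, hB⟩ := hto x y ha1
    obtain ⟨B', hB'⟩ := hto x' y' hb1
    refine ⟨mk (L B') * (mk (L B))⁻¹, mul_mem (hN B') (inv_mem (hN B)), ?_⟩
    rw [← hB', ← hB]
    group

theorem exists_first (x y : F) (h : x ≠ 0 ∨ y ≠ 0) : ∃ D : SL2, D.1 0 0 = x ∧ D.1 0 1 = y := by
  by_cases hx : x = 0
  · have hy : y ≠ 0 := h.resolve_left (not_not.2 hx)
    refine ⟨⟨!![0, y; y⁻¹, 0], ?_⟩, ?_, ?_⟩
    · rw [Matrix.det_fin_two]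
      simp [hy]
      haveI := PSL34.char_two hF
      exact CharTwo.neg_eq 1
    · simp [hx]
    · simp
  · refine ⟨⟨!![x, y; 0, x⁻¹], ?_⟩, ?_, ?_⟩
    · rw [Matrix.det_fin_two]
      simp [hx]
    · simp
    · simp

theorem plane_one : Plane (img (U1 (F := F))) := by
  refine plane_of_model hF (L := L1) (fun a b => ut a 0 b) ?_ ?_ ?_ ?_ ?_ ?_ ?_
  · intro A
    refine ⟨fun (hA : A.1.1 1 2 = 0) => ⟨A.1.1 0 1, A.1.1 0 2, ext_entries _ _ rfl hA rfl⟩, ?_⟩
    rintro ⟨a, b, rfl⟩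
    rfl
  · exact ext_entries _ _ one_entries.1.symm one_entries.2.1.symm one_entries.2.2.symm
  · intro B a b r h hr
    rw [L1_coe, ut_coe] at h
    have h00 : r = 1 := by simpa [L1m] using (congrFun (congrFun h 0) 0).symm
    subst h00
    have e11 : B.1 0 0 = 1 := by simpa [L1m] using congrFun (congrFun h 1) 1
    have e12 : B.1 0 1 = 0 := by simpa [L1m] using congrFun (congrFun h 1) 2
    have e21 : B.1 1 0 = 0 := by simpa [L1m] using congrFun (congrFun h 2) 1
    have e22 : B.1 1 1 = 1 := by simpa [L1m] using congrFun (congrFun h 2) 2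
    apply Subtype.ext
    ext i j
    fin_cases i <;> fin_cases j <;> simp [e11, e12, e21, e22]
  · exact fun B a b => ⟨_, _, conj_one hF B a b⟩
  · intro a b hab
    obtain ⟨D, hD0, hD1⟩ := exists_first hF a b hab
    refine ⟨D⁻¹, ?_⟩
    have h := conj_one hF D⁻¹ 1 0
    rw [inv_inv, hD0, hD1, one_mul, one_mul, zero_mul, zero_mul, add_zero, add_zero] at h
    exact h
  · intro g hg
    have hz : ∀ i : Fin 3, i ≠ 0 → g.1 i 0 = 0 := by
      intro i hi
      obtain ⟨a', b', h⟩ := hg 1 0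
      rw [Matrix.SpecialLinearGroup.coe_mul, Matrix.SpecialLinearGroup.coe_mul, ut_coe, ut_coe] at h
      have e := congrFun (congrFun h i) 1
      fin_cases i
      · exact absurd rfl hi
      all_goals
        simp [Matrix.mul_apply, Fin.sum_univ_three] at e
        simpa using e
    have h10 := hz 1 (by decide)
    have h20 := hz 2 (by decide)
    have hdet := g.2
    rw [Matrix.det_fin_three, h10, h20] at hdet
    have ha : g.1 0 0 ≠ 0 := fun h0 => one_ne_zero (α := F) (by rw [← hdet, h0]; ring)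
    have ha3 := PSL34.cube hF ha
    obtain ⟨B, hB⟩ : ∃ B : SL2, B.1 = (g.1 0 0)⁻¹ • !![g.1 1 1, g.1 1 2; g.1 2 1, g.1 2 2] := by
      refine ⟨⟨_, ?_⟩, rfl⟩
      rw [Matrix.det_smul, Fintype.card_fin, Matrix.det_fin_two_of]
      field_simp
      linear_combination (g.1 0 0) ^ 2 * hdet - (g.1 1 1 * g.1 2 2 - g.1 1 2 * g.1 2 1) * ha3
    refine ⟨g.1 0 1 / g.1 0 0 * B⁻¹.1 0 0 + g.1 0 2 / g.1 0 0 * B⁻¹.1 1 0,
      g.1 0 1 / g.1 0 0 * B⁻¹.1 0 1 + g.1 0 2 / g.1 0 0 * B⁻¹.1 1 1, B, g.1 0 0, ha3, ?_⟩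
    rw [← conj_one hF, Matrix.SpecialLinearGroup.coe_mul, L1_coe, ut_coe, hB]
    ext i j
    fin_cases i <;> fin_cases j <;> simp [L1m, Matrix.mul_apply, Fin.sum_univ_three, h10, h20] <;> field_simp
  · exact fun a b => sq_of_mem hF (Or.inl rfl)

theorem plane_two : Plane (img (U2 (F := F))) := by
  refine plane_of_model hF (L := L2) (fun a b => ut 0 b a) ?_ ?_ ?_ ?_ ?_ ?_ ?_
  · intro A
    refine ⟨fun (hA : A.1.1 0 1 = 0) => ⟨A.1.1 0 2, A.1.1 1 2, ext_entries _ _ hA rfl rfl⟩, ?_⟩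
    rintro ⟨a, b, rfl⟩
    rfl
  · exact ext_entries _ _ one_entries.1.symm one_entries.2.1.symm one_entries.2.2.symm
  · intro B a b r h hr
    rw [L2_coe, ut_coe] at h
    have h22' : r = 1 := by simpa [L2m] using (congrFun (congrFun h 2) 2).symm
    subst h22'
    have e11 : B.1 0 0 = 1 := by simpa [L2m] using congrFun (congrFun h 0) 0
    have e12 : B.1 0 1 = 0 := by simpa [L2m] using congrFun (congrFun h 0) 1
    have e21 : B.1 1 0 = 0 := by simpa [L2m] using congrFun (congrFun h 1) 0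
    have e22 : B.1 1 1 = 1 := by simpa [L2m] using congrFun (congrFun h 1) 1
    apply Subtype.ext
    ext i j
    fin_cases i <;> fin_cases j <;> simp [e11, e12, e21, e22]
  · exact fun B a b => ⟨_, _, conj_two hF B a b⟩
  · intro a b hab
    obtain ⟨D, hD0, hD1⟩ : ∃ D : SL2, D.1 0 0 = a ∧ D.1 1 0 = b := by
      obtain ⟨D, h0, h1⟩ := exists_first hF a b hab
      exact ⟨⟨D.1.transpose, (Matrix.det_transpose D.1).trans D.2⟩, h0, h1⟩
    refine ⟨D, ?_⟩
    have h := conj_two hF D 1 0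
    rw [hD0, hD1, mul_one, mul_one, mul_zero, mul_zero, add_zero, add_zero] at h
    exact h
  · intro g hg
    have hz : g.1 2 0 = 0 ∧ g.1 2 1 = 0 := by
      constructor
      · obtain ⟨a', b', h⟩ := hg 1 0
        rw [Matrix.SpecialLinearGroup.coe_mul, Matrix.SpecialLinearGroup.coe_mul, ut_coe, ut_coe] at h
        have e := congrFun (congrFun h 2) 2
        simp [Matrix.mul_apply, Fin.sum_univ_three] at e
        exact e
      · obtain ⟨a', b', h⟩ := hg 0 1
        rw [Matrix.SpecialLinearGroup.coe_mul, Matrix.SpecialLinearGroup.coe_mul, ut_coe, ut_coe] at h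
        have e := congrFun (congrFun h 2) 2
        simp [Matrix.mul_apply, Fin.sum_univ_three] at e
        exact e
    obtain ⟨h20, h21⟩ := hz
    have hdet := g.2
    rw [Matrix.det_fin_three, h20, h21] at hdet
    have ha : g.1 2 2 ≠ 0 := fun h0 => one_ne_zero (α := F) (by rw [← hdet, h0]; ring)
    have ha3 := PSL34.cube hF ha
    obtain ⟨B, hB⟩ : ∃ B : SL2, B.1 = (g.1 2 2)⁻¹ • !![g.1 0 0, g.1 0 1; g.1 1 0, g.1 1 1] := by
      refine ⟨⟨_, ?_⟩, rfl⟩
      rw [Matrix.det_smul, Fintype.card_fin, Matrix.det_fin_two_of]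
      field_simp
      linear_combination (g.1 2 2) ^ 2 * hdet - (g.1 0 0 * g.1 1 1 - g.1 0 1 * g.1 1 0) * ha3
    refine ⟨g.1 0 2 / g.1 2 2, g.1 1 2 / g.1 2 2, B, g.1 2 2, ha3, ?_⟩
    rw [Matrix.SpecialLinearGroup.coe_mul, L2_coe, ut_coe, hB]
    ext i j
    fin_cases i <;> fin_cases j <;> simp [L2m, Matrix.mul_apply, Fin.sum_univ_three, h20, h21] <;> field_simp
  · exact fun a b => sq_of_mem hF (Or.inr rfl)

end CfsgLib.L34Cover
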