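import Cfsg.Prelude.Def_Transfer
import Cfsg.Agent.Lib.L34Cover.Planes
import Cfsg.Agent.S0051

/-!
The preimages of the elementary abelian subgroups of order sixteen in a central extension of
`PSL₃(4)` by an elementary abelian `2`-group.
-/

set_option autoImplicit false
set_option linter.style.haveILetI false
set_option linter.unusedSectionVars false

namespace CfsgLib.L34Cover

open Matrix CfsgLib.PSLn
open scoped Pointwise

universe u v

variable {X : Type u} [Group X] [Finite X] {F : Type v} [Field F] [Fintype F]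


theorem sl_two_equiv (hF : Fintype.card F = 4) : Nonempty ((Matrix.SpecialLinearGroup (Fin 2) F) ≃* (Matrix.ProjectiveSpecialLinearGroup (Fin 2) F)) := by
  have hinj : Function.Injective (QuotientGroup.mk' (Subgroup.center (Matrix.SpecialLinearGroup (Fin 2) F))) := by
    refine (injective_iff_map_eq_one _).2 fun A hA => ?_
    obtain ⟨r, hr, h⟩ := Matrix.SpecialLinearGroup.mem_center_iff.1 ((QuotientGroup.eq_one_iff A).1 hA)
    rw [Fintype.card_fin] at hr
    have h1 : r = 1 := one_of_sq hF r (by rw [← pow_two]; exact hr)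
    refine Subtype.ext ?_
    rw [← h, h1, map_one]
    rfl
  exact ⟨MulEquiv.ofBijective _ ⟨hinj, QuotientGroup.mk'_surjective _⟩⟩

theorem commute_of_exponent_two {G : Type*} [Group G] {H : Subgroup G} (h : ∀ x ∈ H, x * x = 1) :
    ∀ a ∈ H, ∀ b ∈ H, a * b = b * a := by
  intro a ha b hb
  have e1 : a⁻¹ = a := inv_eq_of_mul_eq_one_right (h a ha)
  have e2 : b⁻¹ = b := inv_eq_of_mul_eq_one_right (h b hb)
  calc a * b = (a * b)⁻¹ := (inv_eq_of_mul_eq_one_right (h _ (mul_mem ha hb))).symm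
    _ = b * a := by rw [_root_.mul_inv_rev, e1, e2]

/-- A complement inside an elementary abelian `2`-group. -/
theorem exists_compl {G : Type*} [Group G] [Finite G] {K B : Subgroup G} (hBK : B ≤ K)
    (hK : ∀ x ∈ K, x * x = 1) : ∃ C ≤ K, C ⊓ B = ⊥ ∧ B ⊔ C = K := by
  classical
  obtain ⟨C, -, hC⟩ := Finite.exists_le_maximal (α := Subgroup G)
    (p := fun C => C ≤ K ∧ C ⊓ B = ⊥) (a := ⊥) ⟨bot_le, bot_inf_eq B⟩
  refine ⟨C, hC.prop.1, hC.prop.2, le_antisymm (sup_le hBK hC.prop.1) fun x hx => ?_⟩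
  by_contra hxn
  have hxC : x ∈ C ⊔ Subgroup.zpowers x := Subgroup.mem_sup_right (Subgroup.mem_zpowers x)
  have hle : C ⊔ Subgroup.zpowers x ≤ C := by
    refine hC.le_of_ge ⟨sup_le hC.prop.1 (Subgroup.zpowers_le.2 hx), ?_⟩ le_sup_left
    rw [eq_bot_iff]
    rintro g ⟨hg, hgB⟩
    have hnorm : Subgroup.zpowers x ≤ Subgroup.normalizer (C : Set G) := by
      rw [Subgroup.zpowers_le, Subgroup.mem_normalizer_iff]
      intro c
      have hcomm := commute_of_exponent_two hK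
      refine ⟨fun hc => ?_, fun hc => ?_⟩
      · rw [hcomm x hx c (hC.prop.1 hc), mul_inv_cancel_right]; exact hc
      · have e : c = x⁻¹ * (x * c * x⁻¹) * x := by group
        rw [e, hcomm x⁻¹ (inv_mem hx) _ (hC.prop.1 hc), inv_mul_cancel_right]
        exact hc
    have hgs : g ∈ (C : Set G) * (Subgroup.zpowers x : Set G) := by
      rw [← Subgroup.coe_mul_of_right_le_normalizer_left C _ hnorm]
      exact hg
    obtain ⟨c, hc, z, hz, rfl⟩ := hgs
    · rw [Subgroup.mem_bot]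
      have hz2 : z = 1 ∨ z = x := by
        obtain ⟨n, rfl⟩ := Subgroup.mem_zpowers_iff.1 hz
        rcases Int.emod_two_eq_zero_or_one n with h | h
        · left
          obtain ⟨m, rfl⟩ := Int.dvd_of_emod_eq_zero h
          rw [_root_.zpow_mul, zpow_ofNat, pow_two, hK x hx, _root_.one_zpow]
        · right
          obtain ⟨m, rfl⟩ : ∃ m, n = 2 * m + 1 := ⟨n / 2, by omega⟩
          rw [_root_.zpow_add, _root_.zpow_mul, zpow_ofNat, pow_two, hK x hx, _root_.one_zpow, one_mul, zpow_one]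
      change c * z ∈ B at hgB
      show c * z = 1
      rcases hz2 with h | h <;> rw [h] at hgB ⊢
      · rw [mul_one] at hgB ⊢
        have : c ∈ C ⊓ B := ⟨hc, hgB⟩
        rwa [hC.prop.2, Subgroup.mem_bot] at this
      · exfalso
        refine hxn ?_
        have e : x = c⁻¹ * (c * x) := (inv_mul_cancel_left c x).symm
        rw [e]
        exact mul_mem (Subgroup.mem_sup_right (inv_mem hc)) (Subgroup.mem_sup_left hgB)
  exact hxn (Subgroup.mem_sup_right (hle hxC))

/-- The hypotheses, after moving the Sylow subgroup to the unitriangular one. -/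
structure Setup (π : X →* (Matrix.ProjectiveSpecialLinearGroup (Fin 3) F)) : Prop where
  surj : Function.Surjective π
  kerc : π.ker ≤ Subgroup.center X
  kersq : ∀ z ∈ π.ker, z * z = 1

variable {π : X →* (Matrix.ProjectiveSpecialLinearGroup (Fin 3) F)}

theorem Setup.mem_of_map (S : Setup π) {H : Subgroup X} (hZ : π.ker ≤ H) {E : Subgroup (Matrix.ProjectiveSpecialLinearGroup (Fin 3) F)}
    (hH : H.map π = E) {x : X} : x ∈ H ↔ π x ∈ E := by
  rw [← hH]
  conv_lhs => rw [← Subgroup.comap_map_eq_self hZ]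
  rfl

theorem Setup.sq_one (S : Setup π) {H : Subgroup X} (hZ : π.ker ≤ H) {E : Subgroup (Matrix.ProjectiveSpecialLinearGroup (Fin 3) F)}
    (hH : H.map π = E) (hP : Plane E) (hEc : Nat.card E = 16) (hEsq : ∀ e ∈ E, e * e = 1) :
    ∀ x ∈ H, x * x = 1 := by
  classical
  have hsqZ : ∀ x ∈ H, x * x ∈ π.ker := fun x hx => by
    rw [MonoidHom.mem_ker, map_mul]
    exact hEsq _ ((S.mem_of_map hZ hH).1 hx)
  have hcent : ∀ z ∈ π.ker, ∀ g, g * z = z * g := fun z hz g => Subgroup.mem_center_iff.1 (S.kerc hz) g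
  have hsame : ∀ a ∈ H, ∀ b ∈ H, π a ≠ 1 → π b ≠ 1 → b * b = a * a := by
    intro a ha b hb ha1 hb1
    obtain ⟨g, -, hg⟩ := hP.trans _ ((S.mem_of_map hZ hH).1 ha) _ ((S.mem_of_map hZ hH).1 hb) ha1 hb1
    obtain ⟨n, rfl⟩ := S.surj g
    obtain ⟨z, hz⟩ : ∃ z, z = (n * a * n⁻¹)⁻¹ * b := ⟨_, rfl⟩
    have hzk : z ∈ π.ker := by
      rw [MonoidHom.mem_ker, hz, map_mul, map_inv, map_mul, map_mul, map_inv, hg, inv_mul_cancel]
    have hb' : b = (n * a * n⁻¹) * z := by rw [hz, mul_inv_cancel_left]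
    calc b * b = (n * a * n⁻¹) * (z * (n * a * n⁻¹)) * z := by rw [hb']; group
      _ = (n * a * n⁻¹) * ((n * a * n⁻¹) * z) * z := by rw [← hcent z hzk (n * a * n⁻¹)]
      _ = (n * (a * a) * n⁻¹) * (z * z) := by group
      _ = a * a := by rw [S.kersq z hzk, mul_one, hcent _ (hsqZ a ha), mul_inv_cancel_right]
  haveI : Fintype E := Fintype.ofFinite E
  have hEnum : Fintype.card E = 16 := by rw [← Nat.card_eq_fintype_card, hEc]
  have hpick : ∀ T : Finset E, T.card < 16 → ∃ a ∈ H, ∀ e ∈ T, π a ≠ (e : (Matrix.ProjectiveSpecialLinearGroup (Fin 3) F)) := by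
    intro T hT
    obtain ⟨e, he⟩ : ∃ e : E, e ∉ T := by
      by_contra h
      push Not at h
      rw [Finset.eq_univ_of_forall h, Finset.card_univ, hEnum] at hT
      exact lt_irrefl _ hT
    obtain ⟨a, ha⟩ := S.surj (e : (Matrix.ProjectiveSpecialLinearGroup (Fin 3) F))
    exact ⟨a, (S.mem_of_map hZ hH).2 (ha ▸ e.2), fun e' he' h => he (by rwa [show e = e' from Subtype.ext (ha.symm.trans h)])⟩
  obtain ⟨a, ha, ha'⟩ := hpick {1} (by simp)
  have ha1 : π a ≠ 1 := by simpa using ha' 1 (Finset.mem_singleton_self 1)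
  set ea : E := ⟨π a, (S.mem_of_map hZ hH).1 ha⟩
  obtain ⟨b, hb, hb'⟩ := hpick {1, ea} (lt_of_le_of_lt Finset.card_le_two (by norm_num))
  have hb1 : π b ≠ 1 := by simpa using hb' 1 (by simp)
  have hba : π b ≠ π a := hb' ea (by simp)
  set eb : E := ⟨π b, (S.mem_of_map hZ hH).1 hb⟩
  obtain ⟨c, hc, hc'⟩ := hpick {1, ea, eb, ea * eb}
    (lt_of_le_of_lt Finset.card_le_four (by norm_num))
  have hc1 : π c ≠ 1 := by simpa using hc' 1 (by simp)
  have hca : π c ≠ π a := hc' ea (by simp)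
  have hcb : π c ≠ π b := hc' eb (by simp)
  have hcab : π c ≠ π a * π b := hc' (ea * eb) (by simp)
  obtain ⟨z₀, hz₀⟩ : ∃ z, z = a * a := ⟨_, rfl⟩
  have hzc : ∀ g : X, g * z₀ = z₀ * g := hz₀ ▸ hcent _ (hsqZ a ha)
  have hz : z₀ * z₀ = 1 := hz₀ ▸ S.kersq _ (hsqZ a ha)
  have hinvE : ∀ e ∈ E, e⁻¹ = e := fun e he => inv_eq_of_mul_eq_one_right (hEsq e he)
  have hk : ∀ x ∈ H, ∀ y ∈ H, π x ≠ 1 → π y ≠ 1 → π x ≠ π y → y * x = z₀ * (x * y) := by
    intro x hx y hy hx1 hy1 hxy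
    have hxy1 : π (x * y) ≠ 1 := by
      rw [map_mul]
      intro h
      exact hxy (by rw [← hinvE _ ((S.mem_of_map hZ hH).1 hy)]; exact eq_inv_of_mul_eq_one_left h)
    have e1 : (x * y) * (x * y) = z₀ := (hsame a ha _ (mul_mem hx hy) ha1 hxy1).trans hz₀.symm
    have e2 : x * x = z₀ := (hsame a ha x hx ha1 hx1).trans hz₀.symm
    have e3 : y * y = z₀ := (hsame a ha y hy ha1 hy1).trans hz₀.symm
    calc y * x = x⁻¹ * ((x * y) * (x * y)) * y⁻¹ := by group
      _ = x⁻¹ * z₀ * y⁻¹ := by rw [e1]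
      _ = z₀ * (x⁻¹ * y⁻¹) := by rw [hzc, mul_assoc]
      _ = z₀ * ((x⁻¹ * (x * x)) * ((y * y) * y⁻¹)) := by
        rw [e2, e3, show x⁻¹ * z₀ * (z₀ * y⁻¹) = x⁻¹ * (z₀ * z₀) * y⁻¹ by group, hz, mul_one]
      _ = z₀ * (x * y) := by group
  have hbc1 : π (b * c) ≠ 1 := by
    rw [map_mul]
    intro h
    exact hcb (by rw [← hinvE _ ((S.mem_of_map hZ hH).1 hb)]; exact eq_inv_of_mul_eq_one_right h)
  have habc : π a ≠ π (b * c) := by
    rw [map_mul]
    intro h
    apply hcab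
    have hb2 := hEsq _ ((S.mem_of_map hZ hH).1 hb)
    have hcomm := commute_of_exponent_two hEsq _ ((S.mem_of_map hZ hH).1 ha) _ ((S.mem_of_map hZ hH).1 hb)
    rw [hcomm, h, ← mul_assoc, hb2, one_mul]
  have k1 := hk a ha b hb ha1 hb1 hba.symm
  have k2 := hk a ha c hc ha1 hc1 hca.symm
  have k3 := hk a ha (b * c) (mul_mem hb hc) ha1 hbc1 habc
  have hz0 : z₀ = 1 := by
    have e : z₀ * (a * (b * c)) = 1 * (a * (b * c)) := by
      calc z₀ * (a * (b * c)) = b * c * a := k3.symm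
        _ = b * (c * a) := mul_assoc _ _ _
        _ = b * (z₀ * (a * c)) := by rw [k2]
        _ = z₀ * (b * a) * c := by rw [← mul_assoc b z₀, hzc b]; group
        _ = (z₀ * z₀) * (a * (b * c)) := by rw [k1]; group
        _ = 1 * (a * (b * c)) := by rw [hz]
    exact mul_right_cancel e
  intro x hx
  by_cases hx1 : π x = 1
  · exact S.kersq x (MonoidHom.mem_ker.2 hx1)
  · exact (hsame a ha x hx ha1 hx1).trans (hz₀.symm.trans hz0)

theorem upper_range_sup :
    img (U1 (F := F)) ⊔ img U2 = (upperHom F 3).range := by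
  rw [img, img, ← Subgroup.map_sup, sup_U, MonoidHom.range_eq_map]

/-- One of the two halves of the conclusion. -/
theorem Setup.split (S : Setup π) (hF : Fintype.card F = 4) (T : Sylow 2 X) {H K : Subgroup X}
    (hZH : π.ker ≤ H) (hHT : H ≤ T) (hKT : K ≤ T) (hH2 : ∀ x ∈ H, x * x = 1) (hK2 : ∀ x ∈ K, x * x = 1)
    (hsup : H ⊔ K = (T : Subgroup X)) (hTN : (T : Subgroup X) ≤ Subgroup.normalizer (H : Set X))
    {E : Subgroup (Matrix.ProjectiveSpecialLinearGroup (Fin 3) F)} (hH : H.map π = E) (hP : Plane E) :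
    ∃ C : Subgroup X, C ≤ Subgroup.normalizer (H : Set X) ∧ C ⊓ H = ⊥ ∧
      H ⊔ C = Subgroup.normalizer (H : Set X) ∧ Nonempty (↥C ≃* (Matrix.ProjectiveSpecialLinearGroup (Fin 2) F)) := by
  classical
  set N := Subgroup.normalizer (H : Set X) with hN
  have hHN : H ≤ N := Subgroup.le_normalizer
  haveI : (H.subgroupOf N).Normal := Subgroup.normal_in_normalizer
  haveI : IsMulCommutative (H.subgroupOf N) := ⟨⟨fun a b => by
    apply Subtype.ext; apply Subtype.ext
    exact commute_of_exponent_two hH2 _ a.2 _ b.2⟩⟩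
  obtain ⟨A, hAK, hAH, hBA⟩ := exists_compl (K := K) (B := H ⊓ K) inf_le_right hK2
  have hAT : A ≤ T := hAK.trans hKT
  have hAH' : A ⊓ H = ⊥ := by
    rw [eq_bot_iff, ← hAH]
    exact fun x hx => ⟨hx.1, hx.2, hAK hx.1⟩
  have hHA : H ⊔ A = (T : Subgroup X) := by
    refine le_antisymm (sup_le hHT hAT) ?_
    rw [← hsup]
    exact sup_le le_sup_left (hBA.symm.le.trans (sup_le (inf_le_left.trans le_sup_left) le_sup_right))
  have hcop : (Nat.card (H.subgroupOf N)).Coprime ((T : Subgroup X).subgroupOf N).index := by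
    rw [Nat.card_congr (Subgroup.subgroupOfEquivOfLe hHN).toEquiv]
    obtain ⟨k, hk⟩ := IsPGroup.iff_card.1 (T.isPGroup'.to_le hHT)
    rw [hk]
    refine Nat.Coprime.pow_left _ ((Nat.prime_two.coprime_iff_not_dvd).2 fun h => ?_)
    refine T.not_dvd_index (h.trans ?_)
    show (T : Subgroup X).relIndex N ∣ (T : Subgroup X).index
    exact Dvd.intro _ (Subgroup.relIndex_mul_index hTN)
  obtain ⟨C', hC'⟩ := Cfsg.Agent.S0051.result (H.subgroupOf N) ((T : Subgroup X).subgroupOf N)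
    (fun x hx => hHT hx) hcop (A.subgroupOf N) (fun x hx => hAT hx)
    (by
      rw [eq_bot_iff]
      intro x hx
      have : (x : X) ∈ A ⊓ H := ⟨hx.1, hx.2⟩
      rw [hAH', Subgroup.mem_bot] at this
      exact Subgroup.mem_bot.2 (Subtype.ext this))
    (by rw [← Subgroup.subgroupOf_sup hHN (hAT.trans hTN), hHA])
  refine ⟨C'.map N.subtype, Subgroup.map_subtype_le _, ?_, ?_, ?_⟩
  · rw [eq_bot_iff]
    rintro x ⟨⟨y, hy, rfl⟩, hxH⟩
    have : y ∈ H.subgroupOf N ⊓ C' := ⟨hxH, hy⟩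
    rw [hC'.disjoint.eq_bot, Subgroup.mem_bot] at this
    rw [Subgroup.mem_bot, this]
    rfl
  · have h := congrArg (Subgroup.map N.subtype) hC'.sup_eq_top
    rw [Subgroup.map_sup, Subgroup.map_subgroupOf_eq_of_le hHN, ← MonoidHom.range_eq_map,
      Subgroup.range_subtype] at h
    exact h
  obtain ⟨f, hfinj, hfN, hfE, hfdec⟩ := hP.split
  have hNE : ∀ x : X, x ∈ N ↔ π x ∈ Subgroup.normalizer (E : Set (Matrix.ProjectiveSpecialLinearGroup (Fin 3) F)) := fun x => by
    have h := Subgroup.comap_normalizer_eq_of_surjective E (f := π) S.surj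
    rw [show (E.comap π) = H by rw [← hH, Subgroup.comap_map_eq_self hZH]] at h
    exact (SetLike.ext_iff.1 h x).symm
  set C := C'.map N.subtype
  have hCN : C ≤ N := Subgroup.map_subtype_le _
  have hdec : ∀ c : C, ∃ B : (Matrix.SpecialLinearGroup (Fin 2) F), π (c : X) * (f B)⁻¹ ∈ E := fun c => by
    obtain ⟨e, he, B, h⟩ := hfdec _ ((hNE _).1 (hCN c.2))
    exact ⟨B, by rw [h, mul_inv_cancel_right]; exact he⟩
  choose φ hφ using hdec
  have huniq : ∀ {B B' : (Matrix.SpecialLinearGroup (Fin 2) F)} {y : (Matrix.ProjectiveSpecialLinearGroup (Fin 3) F)}, y * (f B)⁻¹ ∈ E → y * (f B')⁻¹ ∈ E → B = B' := by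
    intro B B' y h h'
    have h1 : f (B * B'⁻¹) ∈ E := by
      have := mul_mem (inv_mem h) h'
      rwa [_root_.mul_inv_rev, inv_inv, show f B * y⁻¹ * (y * (f B')⁻¹) = f B * (f B')⁻¹ by group,
        ← map_inv, ← map_mul] at this
    exact mul_inv_eq_one.1 (hfE _ h1)
  let ψ : C →* (Matrix.SpecialLinearGroup (Fin 2) F) := MonoidHom.mk' φ fun c d => by
    refine huniq (hφ (c * d)) ?_
    rw [Subgroup.coe_mul, map_mul, map_mul, _root_.mul_inv_rev]
    have h1 := hφ c
    have h2 := (Subgroup.mem_normalizer_iff.1 ((hNE _).1 (hCN c.2)) _).1 (hφ d)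
    have := mul_mem h2 h1
    rwa [show π (c : X) * (π (d : X) * (f (φ d))⁻¹) * (π (c : X))⁻¹ * (π (c : X) * (f (φ c))⁻¹) =
      π (c : X) * π (d : X) * ((f (φ d))⁻¹ * (f (φ c))⁻¹) by group] at this
  have hbij : Function.Bijective ψ := by
    refine ⟨(injective_iff_map_eq_one ψ).2 fun c hc => ?_, fun B => ?_⟩
    · have h : π (c : X) * (f (φ c))⁻¹ ∈ E := hφ c
      rw [show φ c = 1 from hc, map_one, inv_one, mul_one] at h
      obtain ⟨y, hy, hyc⟩ := c.2
      have hyH : y ∈ H.subgroupOf N ⊓ C' := by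
        refine ⟨?_, hy⟩
        show (y : X) ∈ H
        rw [show (y : X) = (c : X) from hyc]
        exact (S.mem_of_map hZH hH).2 h
      rw [hC'.disjoint.eq_bot, Subgroup.mem_bot] at hyH
      apply Subtype.ext
      rw [← hyc, hyH]
      rfl
    · obtain ⟨x, hx⟩ := S.surj (f B)
      have hxN : x ∈ N := (hNE x).2 (hx ▸ hfN B)
      obtain ⟨⟨h₀, c₀⟩, e⟩ := hC'.surjective ⟨x, hxN⟩
      have e' : ((h₀ : N) : X) * ((c₀ : N) : X) = x := congrArg Subtype.val e
      refine ⟨⟨((c₀ : N) : X), (c₀ : N), c₀.2, rfl⟩, huniq (hφ _) ?_⟩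
      show π ((c₀ : N) : X) * (f B)⁻¹ ∈ E
      rw [← hx, ← e', map_mul, _root_.mul_inv_rev, mul_inv_cancel_left]
      exact inv_mem ((S.mem_of_map hZH hH).1 h₀.2)
  obtain ⟨e⟩ := sl_two_equiv hF
  exact ⟨(MulEquiv.ofBijective ψ hbij).trans e⟩

theorem main (hF : Fintype.card F = 4) {π₀ : X →* (Matrix.ProjectiveSpecialLinearGroup (Fin 3) F)} (S₀ : Setup π₀) (T : Sylow 2 X)
    (H K : Subgroup X) (hHK : H ≠ K) (hHT : H ≤ T) (hKT : K ≤ T) (hZH : π₀.ker ≤ H) (hZK : π₀.ker ≤ K)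
    (hHe : ∀ e ∈ H.map π₀, e * e = 1) (hHc : Nat.card (H.map π₀) = 16)
    (hKe : ∀ e ∈ K.map π₀, e * e = 1) (hKc : Nat.card (K.map π₀) = 16) :
    Cfsg.IsElementaryAbelian 2 H ∧ Cfsg.IsElementaryAbelian 2 K ∧
      H ⊓ K = (Subgroup.center ↥(H ⊔ K)).map (H ⊔ K).subtype ∧
      (∃ C : Subgroup X, C ≤ Subgroup.normalizer (H : Set X) ∧ C ⊓ H = ⊥ ∧
        H ⊔ C = Subgroup.normalizer (H : Set X) ∧ Nonempty (↥C ≃* (Matrix.ProjectiveSpecialLinearGroup (Fin 2) F))) ∧
      (∃ C : Subgroup X, C ≤ Subgroup.normalizer (K : Set X) ∧ C ⊓ K = ⊥ ∧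
        K ⊔ C = Subgroup.normalizer (K : Set X) ∧ Nonempty (↥C ≃* (Matrix.ProjectiveSpecialLinearGroup (Fin 2) F))) := by
  classical
  haveI := PSL34.char_two hF
  haveI : Fact (Nat.Prime 2) := ⟨Nat.prime_two⟩
  obtain ⟨g, hg⟩ := MulAction.exists_smul_eq (Matrix.ProjectiveSpecialLinearGroup (Fin 3) F) (T.mapSurjective S₀.surj) (upperSylow (F := F) (n := 3) 2)
  set π : X →* (Matrix.ProjectiveSpecialLinearGroup (Fin 3) F) := (MulAut.conj g).toMonoidHom.comp π₀ with hπ
  have hker : π.ker = π₀.ker := by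
    ext x
    simp [hπ]
  have S : Setup π :=
    ⟨(MulAut.conj g).surjective.comp S₀.surj, hker ▸ S₀.kerc, hker ▸ S₀.kersq⟩
  have hTmap : (T : Subgroup X).map π = (upperHom F 3).range := by
    rw [← coe_upperSylow (F := F) (n := 3) 2, ← hg, hπ, ← Subgroup.map_map]
    rfl
  have key : ∀ H : Subgroup X, π.ker ≤ H → H ≤ T → (∀ e ∈ H.map π₀, e * e = 1) →
      Nat.card (H.map π₀) = 16 → ∃ U : Subgroup (upper F 3),
        (U = U1 ∨ U = U2) ∧ H.map π = img U ∧ Plane (img U) ∧ (∀ x ∈ H, x * x = 1) := by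
    intro H hZ hT he hc
    set E := H.map π with hE
    have hEmap : E = (H.map π₀).map (MulAut.conj g).toMonoidHom := by rw [Subgroup.map_map]
    have hEc : Nat.card E = 16 := by
      rw [hEmap, ← Nat.card_congr ((H.map π₀).equivMapOfInjective _ (MulAut.conj g).injective).toEquiv, hc]
    have hEsq : ∀ e ∈ E, e * e = 1 := by
      intro e he'
      rw [hEmap] at he'
      obtain ⟨e₀, he₀, rfl⟩ := he'
      rw [← map_mul, he e₀ he₀, map_one]
    have hEr : E ≤ (upperHom F 3).range := hTmap ▸ Subgroup.map_mono hT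
    set W := E.comap (upperHom F 3)
    have hWmap : W.map (upperHom F 3) = E := Subgroup.map_comap_eq_self hEr
    have hWc : Nat.card W = 16 := by
      rw [Nat.card_congr (W.equivMapOfInjective _ upperHom_injective).toEquiv, hWmap, hEc]
    have hWsq : ∀ w ∈ W, w * w = 1 := fun w hw => upperHom_injective (F := F) (n := 3) (by
      rw [map_mul, hEsq _ hw, map_one])
    have hU := eq_U1_or_U2 hF W hWsq hWc
    have hP : Plane (img W) := by
      rcases hU with h | h <;> rw [h]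
      · exact plane_one hF
      · exact plane_two hF
    refine ⟨W, hU, hWmap.symm, hP, S.sq_one hZ hWmap.symm hP ?_ ?_⟩
    · show Nat.card (W.map (upperHom F 3)) = 16
      rw [hWmap]; exact hEc
    · rw [hWmap]; exact hEsq
  obtain ⟨U, hU, hHU, hPU, hH2⟩ := key H (hker ▸ hZH) hHT hHe hHc
  obtain ⟨V, hV, hKV, hPV, hK2⟩ := key K (hker ▸ hZK) hKT hKe hKc
  have hUV : U ≠ V := fun h => hHK (by
    ext x
    rw [S.mem_of_map (hker ▸ hZH) hHU, S.mem_of_map (hker ▸ hZK) hKV, h])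
  have hpair : img U ⊔ img V = (upperHom F 3).range := by
    rcases hU with rfl | rfl <;> rcases hV with rfl | rfl
    · exact absurd rfl hUV
    · exact upper_range_sup
    · rw [sup_comm]; exact upper_range_sup
    · exact absurd rfl hUV
  have hsup : H ⊔ K = (T : Subgroup X) := by
    refine le_antisymm (sup_le hHT hKT) fun x hx => ?_
    have h : π x ∈ (H ⊔ K).map π := by
      rw [Subgroup.map_sup, hHU, hKV, hpair, ← hTmap]
      exact ⟨x, hx, rfl⟩
    obtain ⟨y, hy, hyx⟩ := h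
    have : y⁻¹ * x ∈ H := hZH (hker ▸ (MonoidHom.mem_ker.2 (by rw [map_mul, map_inv, hyx, inv_mul_cancel])))
    have := mul_mem hy (Subgroup.mem_sup_left (T := K) this)
    rwa [mul_inv_cancel_left] at this
  have hnormal : ∀ (H : Subgroup X) (U : Subgroup (upper F 3)), π.ker ≤ H → H.map π = img U → U.Normal →
      (T : Subgroup X) ≤ Subgroup.normalizer (H : Set X) := by
    intro H U hZ hHU hUn t ht
    have h := Subgroup.comap_normalizer_eq_of_surjective (img U) (f := π) S.surj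
    rw [show (img U).comap π = H by rw [← hHU, Subgroup.comap_map_eq_self hZ]] at h
    rw [← h, Subgroup.mem_comap]
    have h1 : π t ∈ (upperHom F 3).range := hTmap ▸ ⟨t, ht, rfl⟩
    obtain ⟨A, hA⟩ := h1
    rw [← hA]
    have h2 : A ∈ Subgroup.normalizer (U : Set (upper F 3)) := by
      rw [Subgroup.normalizer_eq_top_iff.2 hUn]; trivial
    exact Subgroup.le_normalizer_map _ ⟨A, h2, rfl⟩
  have hUn : U.Normal := by rcases hU with rfl | rfl <;> infer_instance
  have hVn : V.Normal := by rcases hV with rfl | rfl <;> infer_instance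
  refine ⟨⟨⟨⟨fun a b => Subtype.ext (commute_of_exponent_two hH2 _ a.2 _ b.2)⟩⟩, fun a ha => by
      rw [pow_two]; exact hH2 a ha⟩,
    ⟨⟨⟨fun a b => Subtype.ext (commute_of_exponent_two hK2 _ a.2 _ b.2)⟩⟩, fun a ha => by
      rw [pow_two]; exact hK2 a ha⟩, ?_,
    S.split hF T (hker ▸ hZH) hHT hKT hH2 hK2 hsup (hnormal H U (hker ▸ hZH) hHU hUn) hHU hPU,
    S.split hF T (hker ▸ hZK) hKT hHT hK2 hH2 (by rw [sup_comm]; exact hsup)
      (hnormal K V (hker ▸ hZK) hKV hVn) hKV hPV⟩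
  refine le_antisymm (fun x hx => ?_) ?_
  · refine ⟨⟨x, Subgroup.mem_sup_left hx.1⟩, Subgroup.mem_center_iff.2 fun y => Subtype.ext ?_, rfl⟩
    show (y : X) * x = x * (y : X)
    have h : H ⊔ K ≤ Subgroup.centralizer ({x} : Set X) := sup_le
      (fun a ha => Subgroup.mem_centralizer_singleton_iff.2 (commute_of_exponent_two hH2 a ha x hx.1))
      (fun a ha => Subgroup.mem_centralizer_singleton_iff.2 (commute_of_exponent_two hK2 a ha x hx.2))
    exact Subgroup.mem_centralizer_singleton_iff.1 (h y.2)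
  · rintro x ⟨⟨x, hx⟩, hxc, rfl⟩
    have hcomm : ∀ y ∈ H ⊔ K, y * x = x * y := fun y hy =>
      congrArg Subtype.val (Subgroup.mem_center_iff.1 hxc ⟨y, hy⟩)
    have hr : π x ∈ (upperHom F 3).range := hTmap ▸ ⟨x, hsup ▸ hx, rfl⟩
    obtain ⟨A, hA⟩ := hr
    have hall : ∀ B ∈ U ⊔ V, B * A = A * B := by
      intro B hB
      apply upperHom_injective (F := F) (n := 3)
      rw [map_mul, map_mul, hA]
      have hB' : upperHom F 3 B ∈ (H ⊔ K).map π := by
        rw [Subgroup.map_sup, hHU, hKV, img, img, ← Subgroup.map_sup]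
        exact ⟨B, hB, rfl⟩
      obtain ⟨y, hy, hyB⟩ := hB'
      rw [← hyB, ← map_mul, ← map_mul, hcomm y hy]
    have hA' : A ∈ U ⊓ V := by
      rcases hU with rfl | rfl <;> rcases hV with rfl | rfl
      · exact absurd rfl hUV
      · exact centralizer_pair A (fun B hB => hall B (Subgroup.mem_sup_left hB))
          (fun B hB => hall B (Subgroup.mem_sup_right hB))
      · rw [inf_comm]
        exact centralizer_pair A (fun B hB => hall B (Subgroup.mem_sup_right hB))
          (fun B hB => hall B (Subgroup.mem_sup_left hB))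
      · exact absurd rfl hUV
    refine ⟨(S.mem_of_map (hker ▸ hZH) hHU).2 ?_, (S.mem_of_map (hker ▸ hZK) hKV).2 ?_⟩
    · show π x ∈ img U
      rw [← hA]; exact ⟨A, hA'.1, rfl⟩
    · show π x ∈ img V
      rw [← hA]; exact ⟨A, hA'.2, rfl⟩

end CfsgLib.L34Cover
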